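import Cfsg.Agent.Lib.Spor.JFourPGL.Perms
import Cfsg.Agent.Lib.Spor.JFourEleven.LargePrime
import Cfsg.Agent.Lib.Spor.JFourElemUnique

/-!
A subgroup isomorphic to `PGL(2,23)` of a group of Janko four type.
-/

set_option autoImplicit false
set_option maxRecDepth 100000
set_option linter.unusedSectionVars false

namespace Cfsg.Agent.Spor.JFour

open Cfsg.Agent.Spor.LFT (iT)
open Cfsg.Agent.Spor.MathieuFrob (tr mu two psl)
open Cfsg (projInv GolayPt M24)
open Twenty3

universe u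

variable {G : Type u} [Group G] [Finite G]

/-- the elements wanted for the linear fractional group -/
structure PGLData (V : Subgroup G) (π : ↥(Subgroup.normalizer (V : Set G)) →* Cfsg.M24) (u b g y : G) : Prop where
  uM : ∃ h : u ∈ Subgroup.normalizer (V : Set G), ((π ⟨u, h⟩ : Cfsg.M24) : Equiv.Perm GolayPt) = tr
  bM : ∃ h : b ∈ Subgroup.normalizer (V : Set G), ((π ⟨b, h⟩ : Cfsg.M24) : Equiv.Perm GolayPt) = mu two
  gM : ∃ h : g ∈ Subgroup.normalizer (V : Set G), ((π ⟨g, h⟩ : Cfsg.M24) : Equiv.Perm GolayPt) = projInv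
  uo : orderOf u = 23
  ucard : Nat.card (Subgroup.centralizer ({u} : Set G)) = 23
  y2 : y * y = 1
  yu : y * u * y⁻¹ = u⁻¹
  yb : y * b * y⁻¹ = b
  yg : y * g * y⁻¹ = g
  yM : y ∉ Subgroup.normalizer (V : Set G)

theorem PGLData.iso {V : Subgroup G} {π : ↥(Subgroup.normalizer (V : Set G)) →* Cfsg.M24} {u b g y : G}
    (D : PGLData V π u b g y) (hker : ∀ c, π c = 1 ↔ (c : G) ∈ V) (hVc : Nat.card V = 2 ^ 11)
    (hVe : Cfsg.IsElementaryAbelian 2 V)
    (huniq : ∀ T : Sylow 2 G, ∀ A B : Subgroup G, A ≤ (T : Subgroup G) → B ≤ (T : Subgroup G) →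
      Cfsg.IsElementaryAbelian 2 A → Cfsg.IsElementaryAbelian 2 B → Nat.card A = 2 ^ 11 → Nat.card B = 2 ^ 11 → A = B) :
    ∃ K : Subgroup G, Nonempty (↥K ≃* GL (Fin 2) (ZMod 23) ⧸ Subgroup.center (GL (Fin 2) (ZMod 23))) := by
  classical
  haveI : Fact (Nat.Prime 2) := ⟨Nat.prime_two⟩
  obtain ⟨huM, hu⟩ := D.uM
  obtain ⟨hbM, hb⟩ := D.bM
  obtain ⟨hgM, hg⟩ := D.gM
  set emb : (Subgroup.normalizer (V : Set G)) →* G × Equiv.Perm GolayPt := (Subgroup.normalizer (V : Set G)).subtype.prod ((Cfsg.M24).subtype.comp π) with hemb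
  set U' : G × Equiv.Perm GolayPt := (u, tr)
  set B' : G × Equiv.Perm GolayPt := (b, mu two)
  set G' : G × Equiv.Perm GolayPt := (g, projInv)
  set Y' : G × Equiv.Perm GolayPt := (y, negP)
  set H0 := Subgroup.closure ({U', B', G'} : Set (G × Equiv.Perm GolayPt)) with hH0
  have hH0le : H0 ≤ emb.range := by
    refine (Subgroup.closure_le _).2 ?_
    rintro _ (rfl | rfl | rfl)
    · exact ⟨⟨u, huM⟩, Prod.ext rfl hu⟩
    · exact ⟨⟨b, hbM⟩, Prod.ext rfl hb⟩
    · exact ⟨⟨g, hgM⟩, Prod.ext rfl hg⟩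
  have hY2 : Y' * Y' = 1 := Prod.ext D.y2 negP_facts.2.2.2
  have hY0 : ∀ h ∈ H0, Y' * h * Y'⁻¹ ∈ H0 := by
    intro h hh
    induction hh using Subgroup.closure_induction with
    | mem h hh =>
      rcases hh with rfl | rfl | rfl
      · rw [show Y' * U' * Y'⁻¹ = U'⁻¹ from Prod.ext D.yu negP_facts.1]
        exact inv_mem (Subgroup.subset_closure (by simp))
      · rw [show Y' * B' * Y'⁻¹ = B' from Prod.ext D.yb negP_facts.2.1]
        exact Subgroup.subset_closure (by simp)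
      · rw [show Y' * G' * Y'⁻¹ = G' from Prod.ext D.yg negP_facts.2.2.1]
        exact Subgroup.subset_closure (by simp)
    | one => rw [mul_one, mul_inv_cancel]; exact one_mem _
    | mul h k _ _ hh hk => rw [← conj_mul]; exact mul_mem hh hk
    | inv h _ hh => rw [← conj_inv]; exact inv_mem hh
  have hYn : Subgroup.zpowers Y' ≤ Subgroup.normalizer (H0 : Set (G × Equiv.Perm GolayPt)) := by
    refine Subgroup.zpowers_le.2 (Subgroup.mem_normalizer_iff.2 fun h => ⟨hY0 h, fun hh => ?_⟩)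
    have := hY0 _ hh
    rwa [show Y' * (Y' * h * Y'⁻¹) * Y'⁻¹ = (Y' * Y') * h * (Y' * Y')⁻¹ by group, hY2, one_mul, inv_one,
      mul_one] at this
  -- the first projection and its kernel part in `V`
  set D0 := H0.map (MonoidHom.fst G (Equiv.Perm GolayPt)) with hD0
  have hD0M : D0 ≤ (Subgroup.normalizer (V : Set G)) := by
    rintro _ ⟨h, hh, rfl⟩
    obtain ⟨m, rfl⟩ := hH0le hh
    exact m.2
  set W := D0 ⊓ V with hW
  have huD : u ∈ D0 := ⟨U', Subgroup.subset_closure (by simp), rfl⟩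
  have huW : ∀ w ∈ W, u * w * u⁻¹ ∈ W := fun w hw =>
    ⟨Subgroup.mul_mem _ (Subgroup.mul_mem _ huD hw.1) (Subgroup.inv_mem _ huD), (Subgroup.mem_normalizer_iff.1 huM w).1 hw.2⟩
  haveI : Fact (Nat.Prime 23) := fact23
  have hfix : W ⊓ Subgroup.centralizer ({u} : Set G) = ⊥ := by
    refine Subgroup.eq_bot_of_card_eq _ (Nat.eq_one_of_dvd_coprimes ?_ (Subgroup.card_dvd_of_le (inf_le_left.trans
      inf_le_right)) (D.ucard ▸ Subgroup.card_dvd_of_le inf_le_right))
    rw [hVc]; norm_num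
  have hmod := Eleven.card_modEq_cent (p := 23) (D.uo ▸ pow_orderOf_eq_one u) huW
  rw [hfix, Subgroup.card_bot] at hmod
  obtain ⟨k, hk11, hk⟩ := (Nat.dvd_prime_pow Nat.prime_two).1 (hVc ▸ Subgroup.card_dvd_of_le (inf_le_right : W ≤ V))
  have hWbot : W = ⊥ := by
    by_contra hne
    have hk0 : k ≠ 0 := fun e => hne (Subgroup.eq_bot_of_card_eq _ (by rw [hk, e, pow_zero]))
    have hkV : k = 11 := by
      rw [hk] at hmod
      unfold Nat.ModEq at hmod
      interval_cases k <;> first | omega | (norm_num at hmod)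
    have hVW : W = V := Subgroup.eq_of_le_of_card_ge inf_le_right (by rw [hk, hkV, hVc])
    -- the conjugate of `V` lies in its normalizer
    set V' := V.map (MulAut.conj y).toMonoidHom with hV'
    have hyD : ∀ d ∈ D0, y * d * y⁻¹ ∈ D0 := by
      rintro _ ⟨h, hh, rfl⟩
      exact ⟨Y' * h * Y'⁻¹, hY0 h hh, rfl⟩
    have hV'N : V' ≤ (Subgroup.normalizer (V : Set G)) := by
      rintro _ ⟨v, hv, rfl⟩
      exact hD0M (hyD v (show v ∈ W from hVW.symm ▸ hv).1)
    have hinj : Function.Injective (MulAut.conj y).toMonoidHom := (MulAut.conj y).injective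
    have hV'e : Cfsg.IsElementaryAbelian 2 V' := by
      refine ⟨⟨⟨?_⟩⟩, ?_⟩
      · rintro ⟨_, v, hv, rfl⟩ ⟨_, v', hv', rfl⟩
        refine Subtype.ext ?_
        show (MulAut.conj y).toMonoidHom v * (MulAut.conj y).toMonoidHom v' = _ * _
        rw [← map_mul, ← map_mul]
        exact congrArg _ (congrArg Subtype.val (hVe.1.is_comm.comm (⟨v, hv⟩ : V) ⟨v', hv'⟩))
      · rintro _ ⟨v, hv, rfl⟩
        rw [← map_pow, hVe.2 v hv, map_one]
    have hV'c : Nat.card V' = 2 ^ 11 := by rw [hV', Subgroup.card_map_of_injective hinj, hVc]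
    have hp : IsPGroup 2 (V ⊔ V' : Subgroup G) :=
      (IsPGroup.of_card hVc).to_sup_of_normal_left' (IsPGroup.of_card hV'c) hV'N
    obtain ⟨T, hT⟩ := hp.exists_le_sylow
    have e := huniq T V V' (le_sup_left.trans hT) (le_sup_right.trans hT) hVe hV'e hVc hV'c
    refine D.yM (Subgroup.mem_normalizer_fintype fun v hv => ?_)
    have : (MulAut.conj y).toMonoidHom v ∈ V' := ⟨v, hv, rfl⟩
    rw [← e] at this
    exact this
  have hsnd : ∀ h ∈ H0, h.2 = 1 → h = 1 := by
    intro h hh h2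
    obtain ⟨m, hm⟩ := hH0le hh
    have hπ : π m = 1 := Subtype.ext (by rw [← hm] at h2; exact h2)
    have h1 : h.1 ∈ W := ⟨⟨h, hh, rfl⟩, by rw [← hm]; exact (hker m).1 hπ⟩
    rw [hWbot, Subgroup.mem_bot] at h1
    exact Prod.ext h1 h2
  set H := H0 ⊔ Subgroup.zpowers Y' with hH
  have hdec : ∀ h ∈ H, h ∈ H0 ∨ h * Y' ∈ H0 := by
    intro h hh
    have hh' : h ∈ ((H0 ⊔ Subgroup.zpowers Y' : Subgroup _) : Set (G × Equiv.Perm GolayPt)) := hh
    rw [Subgroup.coe_mul_of_right_le_normalizer_left _ _ hYn] at hh'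
    obtain ⟨h0, hh0, q, hq, rfl⟩ := Set.mem_mul.1 hh'
    obtain ⟨k, rfl⟩ : q ∈ Submonoid.powers Y' := mem_powers_iff_mem_zpowers.2 hq
    rcases Nat.even_or_odd k with ⟨j, rfl⟩ | ⟨j, rfl⟩
    · left
      show h0 * Y' ^ (j + j) ∈ H0
      rw [← two_mul, pow_mul, pow_two, hY2, one_pow, mul_one]; exact hh0
    · right
      show h0 * Y' ^ (2 * j + 1) * Y' ∈ H0
      rw [pow_succ, pow_mul, pow_two, hY2, one_pow, one_mul, mul_assoc, hY2, mul_one]; exact hh0
  have hm24 : ∀ h ∈ H0, h.1 ∈ (Subgroup.normalizer (V : Set G)) ∧ h.2 ∈ Cfsg.M24 := fun h hh => by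
    obtain ⟨m, rfl⟩ := hH0le hh
    exact ⟨m.2, (π m).2⟩
  have hk1 : ∀ h ∈ H, h.1 = 1 → h = 1 := by
    intro h hh h1
    rcases hdec h hh with h0 | h0
    · refine hsnd h h0 ?_
      obtain ⟨m, rfl⟩ := hH0le h0
      have hm : m = 1 := Subtype.ext h1
      subst hm
      show ((π 1 : Cfsg.M24) : Equiv.Perm GolayPt) = 1
      rw [map_one]; rfl
    · exfalso
      have := (hm24 _ h0).1
      rw [Prod.fst_mul, h1, one_mul] at this
      exact D.yM this
  have hk2 : ∀ h ∈ H, h.2 = 1 → h = 1 := by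
    intro h hh h2
    rcases hdec h hh with h0 | h0
    · exact hsnd h h0 h2
    · exfalso
      have := (hm24 _ h0).2
      rw [Prod.snd_mul, h2, one_mul] at this
      exact negP_notMem this
  set f1 := (MonoidHom.fst G (Equiv.Perm GolayPt)).comp H.subtype
  set f2 := (MonoidHom.snd G (Equiv.Perm GolayPt)).comp H.subtype
  have hf1 : Function.Injective f1 := (injective_iff_map_eq_one f1).2 fun h e => Subtype.ext (hk1 h h.2 e)
  have hf2 : Function.Injective f2 := (injective_iff_map_eq_one f2).2 fun h e => Subtype.ext (hk2 h h.2 e)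
  have hr : f2.range = pgl := by
    rw [MonoidHom.range_comp, Subgroup.range_subtype, hH, Subgroup.map_sup, hH0, MonoidHom.map_closure,
      MonoidHom.map_zpowers, pgl, psl_closure]
    simp [Set.image_insert_eq, U', B', G', Y']
  exact ⟨f1.range, ⟨((MonoidHom.ofInjective hf1).symm.trans (MonoidHom.ofInjective hf2)).trans
    ((MulEquiv.subgroupCongr hr).trans pglEquiv.symm)⟩⟩

/-- a permutation of the code group normalising the translations has odd order -/
theorem norm_tr_card : Nat.card (Subgroup.normalizer (Subgroup.zpowers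
    (⟨tr, MathieuFrob.mem_of_m24ok MathieuFrob.gens_m24.1⟩ : Cfsg.M24) : Set Cfsg.M24)) = 253 := by
  classical
  set w : Cfsg.M24 := ⟨tr, MathieuFrob.mem_of_m24ok MathieuFrob.gens_m24.1⟩
  have hw : orderOf w = 23 := by
    rw [← Subgroup.orderOf_coe]
    exact orderOf_eq_prime Twenty3.gen_facts.1 Twenty3.gen_facts.2.1
  obtain ⟨m, n, hm, hn, hN, hGe⟩ := M22U.PrimeCount.card_normalizer (p := 23) (by norm_num)
    (hw ▸ orderOf_dvd_natCard w) (by rw [Spor.card_M24]; norm_num) (X := Subgroup.zpowers w)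
    (by rw [Nat.card_zpowers, hw])
  rw [cent_zpowers, M24Block.card_centralizer_big (Or.inr rfl) hw] at hN hGe
  rw [Spor.card_M24] at hGe
  rw [hN]
  have key : ∀ k ∈ (List.range 23), k ∣ 22 → (244823040 / (23 * k)) % 23 = 1 → k = 11 := by decide +kernel
  have hmpos : 0 < m := Nat.pos_of_dvd_of_pos hm (by norm_num)
  have hn' : n = 244823040 / (23 * m) := by
    rw [hGe, Nat.mul_div_cancel_left _ (by omega)]
  rw [key m (List.mem_range.2 (by have := Nat.le_of_dvd (by norm_num) hm; omega)) hm (hn' ▸ hn)]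

variable {z : G} {Q N : Subgroup G} {x : G} (S : Big z Q N x) (f : Frame z Q x)

include S f

theorem Big.pgl_sub :
    ∃ K : Subgroup G, Nonempty (↥K ≃* GL (Fin 2) (ZMod 23) ⧸ Subgroup.center (GL (Fin 2) (ZMod 23))) := by
  classical
  haveI : Fact (Nat.Prime 11) := ⟨by norm_num⟩
  haveI : Fact (Nat.Prime 23) := fact23
  obtain ⟨V, t₀, b₀, π, hVe, -, X⟩ := S.eleven_ctx f
  obtain ⟨g₀, w₀, W⟩ := X.cent_b
  have hπs : Function.Surjective π := by
    have h := Subgroup.card_eq_card_quotient_mul_card_subgroup π.ker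
    rw [Nat.card_congr (QuotientGroup.quotientKerEquivRange π).toEquiv, X.cardM] at h
    have hk : Nat.card π.ker = 2 ^ 11 := by
      rw [← X.Vc]
      exact Nat.card_congr
        { toFun := fun c => ⟨(c.1 : G), (X.ker c.1).1 c.2⟩
          invFun := fun v => ⟨⟨v, Subgroup.le_normalizer v.2⟩, (X.ker _).2 v.2⟩
          left_inv := fun _ => rfl
          right_inv := fun _ => rfl }
    rw [hk] at h
    refine MonoidHom.range_eq_top.1 (Subgroup.eq_top_of_card_eq _ ?_)
    rw [Spor.card_M24]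
    norm_num at h ⊢
    generalize Nat.card π.range = r at h ⊢
    omega
  set muM : Cfsg.M24 := ⟨mu two, MathieuFrob.mem_of_m24ok MathieuFrob.gens_m24.2.2⟩
  have hmu : orderOf muM = 11 := by
    rw [← Subgroup.orderOf_coe]; exact orderOf_eq_prime Twenty3.gen_facts.2.2.1 Twenty3.gen_facts.2.2.2.1
  have hb₀ : orderOf (π ⟨b₀, X.bM⟩) = 11 := by
    refine orderOf_eq_prime ?_ fun e => ?_
    · rw [← map_pow, show (⟨b₀, X.bM⟩ : (Subgroup.normalizer (V : Set G))) ^ 11 = 1 from Subtype.ext (by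
        rw [SubmonoidClass.coe_pow]; exact X.bo ▸ pow_orderOf_eq_one b₀), map_one]
    · have h := Subgroup.orderOf_dvd_natCard V ((X.ker ⟨b₀, X.bM⟩).1 e)
      rw [X.bo, X.Vc] at h
      norm_num at h
  obtain ⟨σ, hσ⟩ := M22U.PrimeCount.conj_of_card (p := 11) (by norm_num) (hmu ▸ orderOf_dvd_natCard muM)
    (by rw [Spor.card_M24]; norm_num) (X := Subgroup.zpowers (π ⟨b₀, X.bM⟩)) (Y := Subgroup.zpowers muM)
    (by rw [Nat.card_zpowers, hb₀]) (by rw [Nat.card_zpowers, hmu])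
  obtain ⟨⟨m, hm⟩, hmσ⟩ := hπs σ
  obtain ⟨k, hk⟩ : muM ∈ Submonoid.powers (σ * π ⟨b₀, X.bM⟩ * σ⁻¹) := by
    refine mem_powers_iff_mem_zpowers.2 ?_
    have h : σ * π ⟨b₀, X.bM⟩ * σ⁻¹ ∈ Subgroup.zpowers muM := hσ ▸ ⟨_, Subgroup.mem_zpowers _, rfl⟩
    exact zpowers_gen (hmu ▸ pow_orderOf_eq_one muM) h (fun e => by
      rw [conj_eq_one_iff.1 e, orderOf_one] at hb₀; norm_num at hb₀)
  set b := (m * b₀ * m⁻¹) ^ k with hb
  set t := m * t₀ * m⁻¹ with ht
  set w := m * w₀ * m⁻¹ with hw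
  set g₁ := m * g₀ * m⁻¹ with hg₁
  have hbM : b ∈ (Subgroup.normalizer (V : Set G)) := Subgroup.pow_mem _ (mul_mem (mul_mem hm X.bM) (inv_mem hm)) _
  have hπb : π ⟨b, hbM⟩ = muM := by
    rw [← show (σ * π ⟨b₀, X.bM⟩ * σ⁻¹) ^ k = muM from hk, ← hmσ, ← map_inv, ← map_mul, ← map_mul, ← map_pow]
    exact congrArg π (Subtype.ext (by rw [SubmonoidClass.coe_pow]; rfl))
  have hco : ∀ r : G, orderOf (m * r * m⁻¹) = orderOf r := fun r => by
    rw [← MulAut.conj_apply]
    exact orderOf_injective (MulAut.conj m).toMonoidHom (MulAut.conj m).injective r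
  have hb11 : b ^ 11 = 1 := by
    rw [hb, ← pow_mul, mul_comm, pow_mul, show (m * b₀ * m⁻¹) ^ 11 = 1 from ((hco b₀).trans X.bo) ▸
      pow_orderOf_eq_one _, one_pow]
  have hb1 : b ≠ 1 := fun e => by
    have h : π ⟨b, hbM⟩ = 1 := by rw [show (⟨b, hbM⟩ : (Subgroup.normalizer (V : Set G))) = 1 from Subtype.ext e, map_one]
    rw [hπb] at h
    rw [h, orderOf_one] at hmu
    norm_num at hmu
  have hcb : Nat.card (Subgroup.centralizer ({b} : Set G)) = 242 := by
    rw [cent_eq_of_mem ((hco b₀).trans X.bo) (Subgroup.pow_mem _ (Subgroup.mem_zpowers _) k) hb1,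
      card_cent_single, W.card]
  have htb : Commute t b := ((Commute.conj_iff m).2 X.bt.symm).pow_right k
  have hwb : Commute w b := ((Commute.conj_iff m).2 W.wb).pow_right k
  have hgb : g₁ * b * g₁⁻¹ = b⁻¹ := by
    rw [hb, ← conj_pow, ← inv_pow]
    congr 1
    rw [hg₁, show m * g₀ * m⁻¹ * (m * b₀ * m⁻¹) * (m * g₀ * m⁻¹)⁻¹ = m * (g₀ * b₀ * g₀⁻¹) * m⁻¹ by group, W.gb]
    group
  have hgt : Commute g₁ t := (Commute.conj_iff m).2 W.gt
  have hgw : Commute g₁ w := (Commute.conj_iff m).2 W.gw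
  have ht2 : t * t = 1 := by rw [ht, conj_mul, X.t2, mul_one, mul_inv_cancel]
  have hg2 : g₁ * g₁ = 1 := by rw [hg₁, conj_mul, W.g2, mul_one, mul_inv_cancel]
  have htw : t * w * t⁻¹ = w⁻¹ := by
    rw [ht, hw, show m * t₀ * m⁻¹ * (m * w₀ * m⁻¹) * (m * t₀ * m⁻¹)⁻¹ = m * (t₀ * w₀ * t₀⁻¹) * m⁻¹ by group, W.tw]
    group
  have hwo : orderOf w = 11 := (hco w₀).trans W.wo
  have hwB : w ∉ Subgroup.zpowers b := by
    intro h
    obtain ⟨i, hi⟩ := h
    apply W.wB
    refine ⟨(k : ℤ) * i, ?_⟩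
    show b₀ ^ ((k : ℤ) * i) = w₀
    have hi' : ((m * b₀ * m⁻¹) ^ k) ^ i = m * w₀ * m⁻¹ := hi
    rw [← zpow_natCast, ← zpow_mul, conj_zpow] at hi'
    exact mul_left_cancel (mul_right_cancel hi')
  have htM : t ∈ (Subgroup.normalizer (V : Set G)) := mul_mem (mul_mem hm (Subgroup.le_normalizer X.tV)) (inv_mem hm)
  have hg₁M : g₁ ∈ (Subgroup.normalizer (V : Set G)) := mul_mem (mul_mem hm W.gM) (inv_mem hm)
  -- correct the image of the inverting involution
  set piM : Cfsg.M24 := ⟨projInv, MathieuFrob.mem_of_m24ok MathieuFrob.gens_m24.2.1⟩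
  obtain ⟨g, hgM, hπg, hgb', hgt', hgw'⟩ : ∃ (g : G) (h : g ∈ (Subgroup.normalizer (V : Set G))), π ⟨g, h⟩ = piM ∧ g * b * g⁻¹ = b⁻¹ ∧
      Commute g t ∧ Commute g w := by
    set γ := π ⟨g₁, hg₁M⟩ with hγ
    have h1 : γ * muM * γ⁻¹ = muM⁻¹ := by
      rw [← hπb, hγ, ← map_inv, ← map_mul, ← map_mul, ← map_inv]
      exact congrArg π (Subtype.ext hgb)
    have h2 : piM * muM * piM⁻¹ = muM⁻¹ := Subtype.ext Twenty3.gen_facts.2.2.2.2.2.2
    have h3 : piM * γ⁻¹ ∈ Subgroup.centralizer ({muM} : Set Cfsg.M24) := by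
      refine Subgroup.mem_centralizer_singleton_iff.2 (mul_inv_eq_iff_eq_mul.1 ?_)
      have h1' : γ⁻¹ * muM * γ = muM⁻¹ := by
        calc γ⁻¹ * muM * γ = γ⁻¹ * (muM⁻¹)⁻¹ * γ := by rw [inv_inv]
          _ = γ⁻¹ * (γ * muM⁻¹ * γ⁻¹) * γ := by rw [show γ * muM⁻¹ * γ⁻¹ = (γ * muM * γ⁻¹)⁻¹ by group, h1]
          _ = muM⁻¹ := by group
      calc piM * γ⁻¹ * muM * (piM * γ⁻¹)⁻¹ = piM * (γ⁻¹ * muM * γ) * piM⁻¹ := by group
        _ = (piM * muM * piM⁻¹)⁻¹ := by rw [h1']; group
        _ = muM := by rw [h2, inv_inv]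
    have h4 : piM * γ⁻¹ ∈ Subgroup.zpowers muM := by
      rw [Subgroup.eq_of_le_of_card_ge (Subgroup.zpowers_le.2
        (Subgroup.mem_centralizer_singleton_iff.2 rfl : muM ∈ Subgroup.centralizer ({muM} : Set Cfsg.M24)))
        (by rw [M24Block.card_centralizer_big (Or.inl rfl) hmu, Nat.card_zpowers, hmu])]
      exact h3
    obtain ⟨i, hi⟩ := mem_powers_iff_mem_zpowers.2 h4
    have hpM : b ^ i * g₁ ∈ (Subgroup.normalizer (V : Set G)) := mul_mem (Subgroup.pow_mem _ hbM _) hg₁M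
    refine ⟨b ^ i * g₁, hpM, ?_, ?_, (htb.symm.pow_left i).mul_left hgt, (hwb.symm.pow_left i).mul_left hgw⟩
    · rw [show (⟨b ^ i * g₁, hpM⟩ : (Subgroup.normalizer (V : Set G))) = (⟨b, hbM⟩ : (Subgroup.normalizer (V : Set G))) ^ i * ⟨g₁, hg₁M⟩ from
        Subtype.ext (by simp [SubmonoidClass.coe_pow]), map_mul, map_pow, hπb,
        show muM ^ i = piM * γ⁻¹ from hi, ← hγ, inv_mul_cancel_right]
    · rw [show b ^ i * g₁ * b * (b ^ i * g₁)⁻¹ = b ^ i * (g₁ * b * g₁⁻¹) * (b ^ i)⁻¹ by group, hgb,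
        ((Commute.refl b).inv_left.pow_right i).eq.symm, mul_inv_cancel_right]
  -- the element of order twenty three
  set trM : Cfsg.M24 := ⟨tr, MathieuFrob.mem_of_m24ok MathieuFrob.gens_m24.1⟩
  have htro : orderOf trM = 23 := by
    rw [← Subgroup.orderOf_coe]; exact orderOf_eq_prime Twenty3.gen_facts.1 Twenty3.gen_facts.2.1
  set H := ((Subgroup.zpowers trM).comap π).map (Subgroup.normalizer (V : Set G)).subtype with hH
  have hHc : Nat.card H = 2 ^ 11 * 23 := by
    rw [hH, Subgroup.card_map_of_injective (Subgroup.subtype_injective _)]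
    have h := Subgroup.card_mul_index ((Subgroup.zpowers trM).comap π)
    rw [Subgroup.index_comap_of_surjective _ hπs, X.cardM] at h
    have h' := Subgroup.card_mul_index (Subgroup.zpowers trM)
    rw [Nat.card_zpowers, htro, Spor.card_M24] at h'
    rw [show (Subgroup.zpowers trM).index = 10644480 by omega] at h
    generalize Nat.card ↥((Subgroup.zpowers trM).comap π) = r at h ⊢
    omega
  obtain ⟨u, hu_mem, huo, hbu⟩ : ∃ u, u ∈ H ∧ orderOf u = 23 ∧ b * u * b⁻¹ ∈ Subgroup.zpowers u := by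
    have hbH : ∀ h ∈ H, b * h * b⁻¹ ∈ H := by
      rintro _ ⟨c, hc, rfl⟩
      refine ⟨⟨b, hbM⟩ * c * ⟨b, hbM⟩⁻¹, ?_, rfl⟩
      obtain ⟨i, hi⟩ := Subgroup.mem_comap.1 hc
      refine Subgroup.mem_comap.2 ⟨2 * i, ?_⟩
      show trM ^ (2 * i) = π (⟨b, hbM⟩ * c * ⟨b, hbM⟩⁻¹)
      rw [map_mul, map_mul, map_inv, hπb, ← show trM ^ i = π c from hi, ← conj_zpow,
        show muM * trM * muM⁻¹ = trM ^ (2 : ℤ) from Subtype.ext (by
          rw [SubgroupClass.coe_zpow]; exact Twenty3.gen_facts.2.2.2.2.1), ← zpow_mul]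
    let φ : Subgroup.zpowers b →* MulAut H :=
      { toFun := fun c =>
          { toFun := fun h => ⟨c * h * (c : G)⁻¹, by
              obtain ⟨i, hi⟩ := mem_powers_iff_mem_zpowers.2 c.2
              have hall : ∀ j : ℕ, ∀ h ∈ H, b ^ j * h * (b ^ j)⁻¹ ∈ H := by
                intro j
                induction j with
                | zero => intro h hh; simpa using hh
                | succ j ih =>
                  intro h hh
                  rw [pow_succ', show b * b ^ j * h * (b * b ^ j)⁻¹ = b * (b ^ j * h * (b ^ j)⁻¹) * b⁻¹ by group]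
                  exact hbH _ (ih h hh)
              rw [← show b ^ i = (c : G) from hi]
              exact hall i h h.2⟩
            invFun := fun h => ⟨(c : G)⁻¹ * h * c, by
              obtain ⟨i, hi⟩ := mem_powers_iff_mem_zpowers.2 (inv_mem c.2 : (c : G)⁻¹ ∈ Subgroup.zpowers b)
              have hall : ∀ j : ℕ, ∀ h ∈ H, b ^ j * h * (b ^ j)⁻¹ ∈ H := by
                intro j
                induction j with
                | zero => intro h hh; simpa using hh
                | succ j ih =>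
                  intro h hh
                  rw [pow_succ', show b * b ^ j * h * (b * b ^ j)⁻¹ = b * (b ^ j * h * (b ^ j)⁻¹) * b⁻¹ by group]
                  exact hbH _ (ih h hh)
              have hm := hall i h h.2
              rw [show b ^ i = (c : G)⁻¹ from hi, inv_inv] at hm
              exact hm⟩
            left_inv := fun h => Subtype.ext (by group)
            right_inv := fun h => Subtype.ext (by group)
            map_mul' := fun h h' => Subtype.ext (conj_mul.symm) }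
        map_one' := MulEquiv.ext fun h => Subtype.ext (by
          show (1 : G) * (h : G) * (1 : G)⁻¹ = h
          group)
        map_mul' := fun c d => MulEquiv.ext fun h => Subtype.ext (by
          show (c : G) * d * h * ((c : G) * d)⁻¹ = c * ((d : G) * h * (d : G)⁻¹) * (c : G)⁻¹
          group) }
    letI : MulDistribMulAction (Subgroup.zpowers b) H := MulDistribMulAction.compHom _ φ
    have hA : IsPGroup 11 (Subgroup.zpowers b) := IsPGroup.of_card (n := 1)
      (by rw [Nat.card_zpowers, orderOf_eq_prime hb11 hb1, pow_one])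
    have h1 : (Nat.card H).factorization 23 = 1 := by
      rw [hHc, Nat.factorization_def _ (by norm_num : Nat.Prime 23), padicValNat.mul (by norm_num) (by norm_num),
        padicValNat.eq_zero_of_not_dvd (by norm_num), padicValNat.self (by norm_num)]
    haveI : Fintype (Sylow 23 H) := Fintype.ofFinite _
    obtain ⟨P₀⟩ : Nonempty (Sylow 23 H) := inferInstance
    have hdvd : ¬ 11 ∣ Nat.card (Sylow 23 H) := fun h => by
      have := h.trans ((Sylow.card_dvd_index P₀).trans (Subgroup.index_dvd_card _))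
      rw [hHc] at this
      norm_num at this
    obtain ⟨P, hP⟩ := hA.nonempty_fixed_point_of_prime_not_dvd_card (Sylow 23 H) hdvd
    obtain ⟨u, hu⟩ := exists_prime_orderOf_dvd_card' (G := (P : Subgroup H)) 23 (by
      rw [P.card_eq_multiplicity, h1]; norm_num)
    refine ⟨((u : H) : G), (u : H).2, by rw [Subgroup.orderOf_coe, Subgroup.orderOf_coe, hu], ?_⟩
    set bA : Subgroup.zpowers b := ⟨b, Subgroup.mem_zpowers b⟩
    have hmem : φ bA (u : H) ∈ (P : Subgroup H) := by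
      have h : bA • (u : H) ∈ ((bA • P : Sylow 23 H) : Subgroup H) := Subgroup.smul_mem_pointwise_smul _ _ _ u.2
      rw [hP bA] at h
      exact h
    have hPz : (P : Subgroup H) = Subgroup.zpowers (u : H) :=
      (Subgroup.eq_of_le_of_card_ge (Subgroup.zpowers_le.2 u.2)
        (by rw [P.card_eq_multiplicity, h1, Nat.card_zpowers, Subgroup.orderOf_coe, hu, pow_one])).symm
    obtain ⟨i, hi⟩ := (SetLike.ext_iff.1 hPz _).1 hmem
    refine ⟨i, ?_⟩
    have := congrArg Subtype.val (show (u : H) ^ i = φ bA (u : H) from hi)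
    rw [SubgroupClass.coe_zpow] at this
    exact this
  obtain ⟨c, hc, hcu⟩ := hu_mem
  have huM : u ∈ (Subgroup.normalizer (V : Set G)) := hcu ▸ c.2
  have hc' : c = ⟨u, huM⟩ := Subtype.ext hcu
  have hπu1 : π ⟨u, huM⟩ ≠ 1 := fun e => by
    have h := Subgroup.orderOf_dvd_natCard V ((X.ker _).1 e)
    rw [show ((⟨u, huM⟩ : (Subgroup.normalizer (V : Set G))) : G) = u from rfl, huo, X.Vc] at h
    norm_num at h
  obtain ⟨i, hi⟩ : trM ∈ Submonoid.powers (π ⟨u, huM⟩) := by
    refine mem_powers_iff_mem_zpowers.2 (zpowers_gen (htro ▸ pow_orderOf_eq_one trM) ?_ hπu1)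
    exact hc' ▸ Subgroup.mem_comap.1 hc
  set v := u ^ i with hv
  have hvM : v ∈ (Subgroup.normalizer (V : Set G)) := Subgroup.pow_mem _ huM _
  have hπv : π ⟨v, hvM⟩ = trM := by
    rw [← show π ⟨u, huM⟩ ^ i = trM from hi, ← map_pow]
    exact congrArg π (Subtype.ext (by rw [SubmonoidClass.coe_pow]))
  have hv1 : v ≠ 1 := fun e => by
    have h : π ⟨v, hvM⟩ = 1 := by rw [show (⟨v, hvM⟩ : (Subgroup.normalizer (V : Set G))) = 1 from Subtype.ext e, map_one]
    rw [hπv] at h
    rw [h, orderOf_one] at htro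
    norm_num at htro
  have hvo : orderOf v = 23 := orderOf_eq_prime (by
    rw [hv, ← pow_mul, mul_comm, pow_mul, show u ^ 23 = 1 from huo ▸ pow_orderOf_eq_one u, one_pow]) hv1
  have hzu : Subgroup.zpowers v = Subgroup.zpowers u :=
    Subgroup.eq_of_le_of_card_ge (Subgroup.zpowers_le.2 (Subgroup.pow_mem _ (Subgroup.mem_zpowers u) _))
      (by rw [Nat.card_zpowers, Nat.card_zpowers, hvo, huo])
  have hbv : b * v * b⁻¹ = v ^ 2 := by
    have hmem : (v ^ 2)⁻¹ * (b * v * b⁻¹) ∈ Subgroup.zpowers u := by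
      refine mul_mem (inv_mem (Subgroup.pow_mem _ (hzu ▸ Subgroup.mem_zpowers v) _)) ?_
      rw [hv, ← conj_pow]
      exact Subgroup.pow_mem _ hbu _
    have hrM : (v ^ 2)⁻¹ * (b * v * b⁻¹) ∈ (Subgroup.normalizer (V : Set G)) :=
      mul_mem (inv_mem (Subgroup.pow_mem _ hvM _)) (mul_mem (mul_mem hbM hvM) (inv_mem hbM))
    have hV : (v ^ 2)⁻¹ * (b * v * b⁻¹) ∈ V := by
      refine (X.ker ⟨_, hrM⟩).1 ?_
      rw [show (⟨_, hrM⟩ : (Subgroup.normalizer (V : Set G))) = ((⟨v, hvM⟩ : (Subgroup.normalizer (V : Set G))) ^ 2)⁻¹ * (⟨b, hbM⟩ * ⟨v, hvM⟩ * ⟨b, hbM⟩⁻¹) from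
        Subtype.ext (by simp), map_mul, map_inv, map_pow, map_mul, map_mul, map_inv, hπb, hπv,
        show muM * trM * muM⁻¹ = trM ^ 2 from Subtype.ext Twenty3.gen_facts.2.2.2.2.1, inv_mul_cancel]
    have h1 : (v ^ 2)⁻¹ * (b * v * b⁻¹) = 1 := by
      refine orderOf_eq_one_iff.1 (Nat.eq_one_of_dvd_coprimes (?_ : Nat.Coprime 23 (2 ^ 11)) ?_ ?_)
      · norm_num
      · exact (Subgroup.orderOf_dvd_natCard _ hmem).trans (dvd_of_eq (by rw [Nat.card_zpowers, huo]))
      · exact (Subgroup.orderOf_dvd_natCard _ hV).trans (dvd_of_eq X.Vc)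
    exact (inv_mul_eq_one.1 h1).symm
  -- the inverting involution
  have hdat := S.large_data f (p := 23) (by simp [Large.five]) hvo
  obtain ⟨hvc, hvn⟩ := Prod.ext_iff.1 hdat
  simp only [dataOf] at hvc hvn
  norm_num at hvn
  set U := Subgroup.zpowers v with hU
  have hv23 : v ^ 23 = 1 := hvo ▸ pow_orderOf_eq_one v
  have hCU : Subgroup.centralizer ({v} : Set G) = U :=
    (Subgroup.eq_of_le_of_card_ge (Subgroup.zpowers_le.2 (Subgroup.mem_centralizer_singleton_iff.2 rfl))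
      (by rw [hvc, Nat.card_zpowers, hvo])).symm
  set χ := U.normalizerMonoidHom with hχ
  have hχs : Function.Surjective χ := by
    refine MonoidHom.range_eq_top.1 (Subgroup.eq_top_of_card_eq _ ?_)
    have h := Subgroup.card_eq_card_quotient_mul_card_subgroup χ.ker
    have hke : Nat.card χ.ker = 23 := by
      rw [hχ, Subgroup.normalizerMonoidHom_ker, hU, cent_zpowers]
      rw [Nat.card_congr (Subgroup.subgroupOfEquivOfLe (show Subgroup.centralizer ({v} : Set G) ≤
        Subgroup.normalizer (Subgroup.zpowers v : Set G) by rw [hCU]; exact Subgroup.le_normalizer)).toEquiv, hvc]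
    rw [hke, Nat.card_congr (QuotientGroup.quotientKerEquivRange χ).toEquiv, hvn] at h
    rw [IsCyclic.card_mulAut, Nat.card_zpowers, hvo, Nat.totient_prime (by norm_num)]
    generalize Nat.card χ.range = r at h ⊢
    omega
  haveI : IsMulCommutative U := inferInstance
  let ι : MulAut U :=
    { toFun := fun r => r⁻¹, invFun := fun r => r⁻¹, left_inv := inv_inv, right_inv := inv_inv,
      map_mul' := fun r r' => by rw [mul_inv_rev, mul_comm'] }
  obtain ⟨⟨n, hnN⟩, hn⟩ := hχs ι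
  have hnu : n * v * n⁻¹ = v⁻¹ :=
    congrArg (fun e : MulAut U => ((e ⟨v, Subgroup.mem_zpowers v⟩ : U) : G)) hn
  have hinU : ∀ c, c * v * c⁻¹ = v → c ∈ U := fun c h =>
    hCU ▸ Subgroup.mem_centralizer_singleton_iff.2 (mul_inv_eq_iff_eq_mul.1 h)
  have hn2 : n * n = 1 := by
    have h2 : n * n * v * (n * n)⁻¹ = v := by
      rw [show n * n * v * (n * n)⁻¹ = n * (n * v * n⁻¹) * n⁻¹ by group, hnu, ← conj_inv, hnu, inv_inv]
    obtain ⟨j, hj⟩ := hinU _ h2
    have hj' : v ^ j = n * n := hj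
    have h3 : n * (n * n) * n⁻¹ = (n * n)⁻¹ := by rw [← hj', ← conj_zpow, hnu, inv_zpow]
    rw [show n * (n * n) * n⁻¹ = n * n by group] at h3
    have hsq : (n * n) ^ 2 = 1 := by rw [pow_two]; exact eq_inv_iff_mul_eq_one.1 h3
    have h23 : (n * n) ^ 23 = 1 := by
      rw [← hj', ← zpow_natCast, ← zpow_mul, mul_comm, zpow_mul, zpow_natCast, hv23, one_zpow]
    have := pow_gcd_eq_one.2 ⟨hsq, h23⟩
    rwa [show Nat.gcd 2 23 = 1 from rfl, pow_one] at this
  obtain ⟨j, hj⟩ := hinU (n * b * n⁻¹ * b⁻¹) (by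
    have hbi : b⁻¹ * v ^ 2 * b = v := by rw [← hbv]; group
    calc n * b * n⁻¹ * b⁻¹ * v * (n * b * n⁻¹ * b⁻¹)⁻¹ = n * b * (n⁻¹ * (b⁻¹ * v * b) * n) * b⁻¹ * n⁻¹ := by group
      _ = v := by
        have e12 : b⁻¹ * v * b = v ^ 12 := by
          have hb' : b * v ^ 12 * b⁻¹ = v := by
            rw [← conj_pow, hbv, ← pow_mul, show 2 * 12 = 23 + 1 by norm_num, pow_succ, hv23, one_mul]
          calc b⁻¹ * v * b = b⁻¹ * (b * v ^ 12 * b⁻¹) * b := by rw [hb']
            _ = v ^ 12 := by group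
        have hninv : n⁻¹ = n := inv_eq_of_mul_eq_one_right hn2
        rw [e12, show n⁻¹ * v ^ 12 * n = n * v ^ 12 * n⁻¹ by rw [hninv], ← conj_pow, hnu,
          show n * b * (v⁻¹) ^ 12 * b⁻¹ * n⁻¹ = n * (b * (v⁻¹) ^ 12 * b⁻¹) * n⁻¹ by group, ← conj_pow, ← conj_inv,
          hbv, ← conj_pow, ← conj_inv, ← conj_pow, hnu, inv_pow, inv_pow, inv_pow, inv_inv, ← pow_mul,
          show 2 * 12 = 23 + 1 by norm_num, pow_succ, hv23, one_mul])
  have hj' : v ^ j = n * b * n⁻¹ * b⁻¹ := hj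
  set y := v ^ j * n with hy
  have hnz : ∀ k : ℤ, n * v ^ k * n⁻¹ = v ^ (-k) := fun k => by rw [← conj_zpow, hnu, inv_zpow, zpow_neg]
  have hy2 : y * y = 1 := by
    rw [hy, show v ^ j * n * (v ^ j * n) = v ^ j * (n * v ^ j * n⁻¹) * (n * n) by group, hnz, hn2, mul_one, zpow_neg,
      mul_inv_cancel]
  have hyv : y * v * y⁻¹ = v⁻¹ := by
    rw [hy, show v ^ j * n * v * (v ^ j * n)⁻¹ = v ^ j * (n * v * n⁻¹) * (v ^ j)⁻¹ by group, hnu]
    group
  have hyb : y * b * y⁻¹ = b := by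
    have hbz : b * v ^ (-j) * b⁻¹ = v ^ (-(2 * j)) := by
      rw [← conj_zpow, hbv, ← zpow_natCast, ← zpow_mul]
      congr 1
      push_cast
      ring
    calc y * b * y⁻¹ = v ^ j * (n * b * n⁻¹ * b⁻¹) * (b * v ^ (-j) * b⁻¹) * b := by rw [hy]; group
      _ = b := by rw [← hj', hbz, ← zpow_add, ← zpow_add, show j + j + -(2 * j) = 0 by ring, zpow_zero, one_mul]
  have hyM : y ∉ (Subgroup.normalizer (V : Set G)) := by
    intro h
    set yv : Cfsg.M24 := π ⟨y, h⟩ with hyv'
    have h1 : yv * trM * yv⁻¹ = trM⁻¹ := by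
      rw [hyv', ← hπv, ← map_inv, ← map_mul, ← map_mul, ← map_inv]
      exact congrArg π (Subtype.ext hyv)
    have hN : yv ∈ Subgroup.normalizer (Subgroup.zpowers trM : Set Cfsg.M24) := by
      refine Subgroup.mem_normalizer_fintype ?_
      rintro _ ⟨r, rfl⟩
      show yv * trM ^ r * yv⁻¹ ∈ (Subgroup.zpowers trM : Set Cfsg.M24)
      rw [← conj_zpow, h1]
      exact Subgroup.zpow_mem _ (inv_mem (Subgroup.mem_zpowers trM)) r
    have hd := Subgroup.orderOf_dvd_natCard _ hN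
    rw [norm_tr_card] at hd
    have h2 : yv ^ 2 = 1 := by
      rw [hyv', ← map_pow, show (⟨y, h⟩ : (Subgroup.normalizer (V : Set G))) ^ 2 = 1 from Subtype.ext (by
        rw [SubmonoidClass.coe_pow, pow_two]; exact hy2), map_one]
    have hone : yv = 1 := by
      have := pow_gcd_eq_one.2 ⟨h2, orderOf_dvd_iff_pow_eq_one.1 hd⟩
      rwa [show Nat.gcd 2 253 = 1 from rfl, pow_one] at this
    rw [hone, one_mul, inv_one, mul_one] at h1
    have h3 : trM ^ 2 = 1 := by rw [pow_two]; exact eq_inv_iff_mul_eq_one.1 h1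
    have := orderOf_dvd_of_pow_eq_one h3
    rw [htro] at this
    norm_num at this
  -- the inverting involution commutes with `g`
  have hyg : Commute y g := by
    set C := Subgroup.centralizer ({b} : Set G) with hC
    have hwn : Subgroup.zpowers w ≤ Subgroup.normalizer (Subgroup.zpowers b : Set G) := by
      refine Subgroup.zpowers_le.2 (Subgroup.mem_normalizer_fintype ?_)
      rintro _ ⟨r, rfl⟩
      show w * b ^ r * w⁻¹ ∈ (Subgroup.zpowers b : Set G)
      rw [(hwb.zpow_right r).eq, mul_inv_cancel_right]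
      exact ⟨r, rfl⟩
    set O := Subgroup.zpowers b ⊔ Subgroup.zpowers w with hO
    have hOC : O ≤ C := sup_le (Subgroup.zpowers_le.2 (Subgroup.mem_centralizer_singleton_iff.2 rfl))
      (Subgroup.zpowers_le.2 (Subgroup.mem_centralizer_singleton_iff.2 hwb.eq))
    have hbo : orderOf b = 11 := orderOf_eq_prime hb11 hb1
    have hOc : Nat.card O = 121 := by
      have hp : IsPGroup 11 O :=
        (IsPGroup.of_card (n := 1) (by rw [Nat.card_zpowers, hbo, pow_one]) : IsPGroup 11 (Subgroup.zpowers b)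
          ).to_sup_of_normal_left'
          (IsPGroup.of_card (n := 1) (by rw [Nat.card_zpowers, hwo, pow_one]) : IsPGroup 11 (Subgroup.zpowers w)) hwn
      obtain ⟨r, hr⟩ := hp.exists_card_eq
      have h1 := Subgroup.card_dvd_of_le hOC
      rw [hr, hcb] at h1
      have hr2 : r ≤ 2 := by
        by_contra hlt
        have := (pow_dvd_pow 11 (show 3 ≤ r by omega)).trans h1
        norm_num at this
      have hlt : 11 < Nat.card O := by
        rcases lt_or_eq_of_le (Subgroup.card_le_of_le (le_sup_left : Subgroup.zpowers b ≤ O)) with h | h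
        · rwa [Nat.card_zpowers, hbo] at h
        · exfalso
          apply hwB
          rw [Subgroup.eq_of_le_of_card_ge (le_sup_left : Subgroup.zpowers b ≤ O) h.ge]
          exact Subgroup.mem_sup_right (Subgroup.mem_zpowers w)
      rw [hr] at hlt ⊢
      interval_cases r <;> simp_all
    set OC := O.subgroupOf C with hOCdef
    have hidx : OC.index = 2 := by
      have h1 := Subgroup.card_mul_index OC
      rw [Nat.card_congr (Subgroup.subgroupOfEquivOfLe hOC).toEquiv, hOc, hcb] at h1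
      omega
    have hnot : ∀ r : G, r * r = 1 → r ≠ 1 → r ∉ O := fun r hr hr1 hmem => by
      have h1 := Subgroup.orderOf_dvd_natCard O hmem
      rw [orderOf_eq_prime (by rw [pow_two, hr]) hr1, hOc] at h1
      norm_num at h1
    have hy1 : y ≠ 1 := fun e => hyM (e ▸ one_mem _)
    have ht1 : t ≠ 1 := fun e => X.t1 (conj_eq_one_iff.1 e)
    have hyC : y ∈ C := Subgroup.mem_centralizer_singleton_iff.2 (mul_inv_eq_iff_eq_mul.1 hyb)
    have htC : t ∈ C := Subgroup.mem_centralizer_singleton_iff.2 htb.eq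
    have hmem : (⟨y, hyC⟩ : C) * ⟨t, htC⟩ ∈ OC := by
      rw [Subgroup.mul_mem_iff_of_index_two hidx]
      exact iff_of_false (fun h => hnot y hy2 hy1 (Subgroup.mem_subgroupOf.1 h))
        (fun h => hnot t ht2 ht1 (Subgroup.mem_subgroupOf.1 h))
    have hmem' : y * t ∈ ((O : Subgroup G) : Set G) := Subgroup.mem_subgroupOf.1 hmem
    rw [hO, Subgroup.coe_mul_of_right_le_normalizer_left _ _ hwn] at hmem'
    obtain ⟨β, ⟨r, rfl⟩, ω, ⟨l, rfl⟩, he⟩ := Set.mem_mul.1 hmem'
    have he' : b ^ r * w ^ l = y * t := he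
    have hbr : b ^ r = 1 := by
      have htt : t * (y * t) * t⁻¹ = (y * t)⁻¹ := by
        rw [show t * (y * t) * t⁻¹ = t * y by group, mul_inv_rev, inv_eq_of_mul_eq_one_right ht2,
          inv_eq_of_mul_eq_one_right hy2]
      rw [← he', ← conj_mul, show t * b ^ r * t⁻¹ = b ^ r by
        rw [((htb).zpow_right r).eq, mul_inv_cancel_right], ← conj_zpow, htw, inv_zpow, mul_inv_rev,
        ((hwb.zpow_right r).zpow_left l).inv_left.inv_right.eq] at htt
      have h2 : b ^ r * b ^ r = 1 := eq_inv_iff_mul_eq_one.1 (mul_right_cancel htt)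
      have h11 : (b ^ r) ^ 11 = 1 := by
        rw [← zpow_natCast, ← zpow_mul, mul_comm, zpow_mul, zpow_natCast, hb11, one_zpow]
      have := pow_gcd_eq_one.2 ⟨(by rw [pow_two]; exact h2 : (b ^ r) ^ 2 = 1), h11⟩
      rwa [show Nat.gcd 2 11 = 1 from rfl, pow_one] at this
    rw [hbr, one_mul] at he'
    have : y = w ^ l * t := by rw [he', mul_assoc, ht2, mul_one]
    rw [this]
    exact (((hgw'.zpow_right l).mul_right hgt')).symm
  refine PGLData.iso (π := π) (u := v) (b := b) (g := g) (y := y)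
    { uM := ⟨hvM, congrArg Subtype.val hπv⟩
      bM := ⟨hbM, congrArg Subtype.val hπb⟩
      gM := ⟨hgM, congrArg Subtype.val hπg⟩
      uo := hvo
      ucard := hvc
      y2 := hy2
      yu := hyv
      yb := hyb
      yg := by rw [hyg.eq, mul_inv_cancel_right]
      yM := hyM } X.ker X.Vc hVe fun T A B hA hB hAe hBe hAc hBc =>
    (S.elem_unique f T).unique ⟨hA, hAe, hAc⟩ ⟨hB, hBe, hBc⟩

end Cfsg.Agent.Spor.JFour
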