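import Cfsg.Agent.Lib.Spor.MathieuFrob
import Cfsg.Agent.Lib.Spor.MathieuTwentyFourCounts
import Mathlib.Topology.Compactification.OnePoint.ProjectiveLine

/-!
The projective general linear group of degree two over twenty three elements on the twenty four points.
-/

set_option autoImplicit false
set_option maxRecDepth 100000

namespace Cfsg.Agent.Spor.JFour.Twenty3

open Cfsg Cfsg.Agent.Spor Cfsg.Agent.Spor.MathieuFrob Cfsg.Agent.Spor.MathieuOut

instance fact23 : Fact (Nat.Prime 23) := ⟨by norm_num⟩

/-- the negation of the residues -/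
def negP : Equiv.Perm GolayPt := Equiv.optionCongr (Equiv.neg (ZMod 23))

theorem negP_facts : negP * tr * negP⁻¹ = tr⁻¹ ∧ negP * mu two * negP⁻¹ = mu two ∧
    negP * projInv * negP⁻¹ = projInv ∧ negP * negP = 1 := by
  decide +kernel

theorem gen_facts : tr ^ 23 = 1 ∧ tr ≠ 1 ∧ mu two ^ 11 = 1 ∧ mu two ≠ 1 ∧ mu two * tr * (mu two)⁻¹ = tr ^ 2 ∧
    projInv * projInv = 1 ∧ projInv * mu two * projInv⁻¹ = (mu two)⁻¹ := by
  decide +kernel

theorem negP_notMem : negP ∉ M24 := fun h => absurd (mem_M24.1 h) (by decide +kernel)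

/-- the group generated by the projective special linear group and the negation -/
def pgl : Subgroup (Equiv.Perm GolayPt) := psl ⊔ Subgroup.zpowers negP

theorem psl_closure : psl = Subgroup.closure {tr, mu two, projInv} := by
  refine le_antisymm ((Subgroup.closure_le _).2 (Set.union_subset ?_ (sqMaps_le ?_)))
    ((Subgroup.closure_le _).2 ?_)
  · rintro g (rfl | rfl) <;> exact Subgroup.subset_closure (by simp)
  · exact Subgroup.subset_closure (by simp)
  · rintro g (rfl | rfl | rfl)
    · exact Subgroup.subset_closure (Or.inl (Or.inl rfl))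
    · exact Subgroup.subset_closure (Or.inr ⟨two, ⟨⟨5, 14, by decide, by decide⟩, by decide⟩, rfl⟩)
    · exact Subgroup.subset_closure (Or.inl (Or.inr rfl))

/-- the action on the projective line -/
noncomputable def moeb : GL (Fin 2) (ZMod 23) →* Equiv.Perm GolayPt :=
  MulAction.toPermHom (GL (Fin 2) (ZMod 23)) (OnePoint (ZMod 23))

theorem moeb_none (g : GL (Fin 2) (ZMod 23)) :
    moeb g none = if g 1 0 = 0 then none else some (g 0 0 / g 1 0) := OnePoint.smul_infty_eq_ite g

theorem moeb_some (g : GL (Fin 2) (ZMod 23)) (k : ZMod 23) :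
    moeb g (some k) = if g 1 0 * k + g 1 1 = 0 then none else some ((g 0 0 * k + g 0 1) / (g 1 0 * k + g 1 1)) :=
  OnePoint.smul_some_eq_ite

theorem scalar_form {g : GL (Fin 2) (ZMod 23)} (hg : g ∈ Subgroup.center (GL (Fin 2) (ZMod 23))) :
    g 1 0 = 0 ∧ g 0 1 = 0 ∧ g 0 0 = g 1 1 := by
  let e : GL (Fin 2) (ZMod 23) := ⟨!![1, 1; 0, 1], !![1, -1; 0, 1], by decide +kernel, by decide +kernel⟩
  let e' : GL (Fin 2) (ZMod 23) := ⟨!![1, 0; 1, 1], !![1, 0; -1, 1], by decide +kernel, by decide +kernel⟩
  have h := congrArg (fun m : GL (Fin 2) (ZMod 23) => (m : Matrix (Fin 2) (Fin 2) (ZMod 23))) (Subgroup.mem_center_iff.1 hg e)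
  have h' := congrArg (fun m : GL (Fin 2) (ZMod 23) => (m : Matrix (Fin 2) (Fin 2) (ZMod 23))) (Subgroup.mem_center_iff.1 hg e')
  simp only [Units.val_mul] at h h'
  have h00 := congrFun (congrFun h 0) 0
  have h01 := congrFun (congrFun h 0) 1
  have k00 := congrFun (congrFun h' 0) 0
  simp [e, Matrix.mul_apply, Fin.sum_univ_two] at h00 h01
  simp [e', Matrix.mul_apply, Fin.sum_univ_two] at k00
  refine ⟨h00, k00, ?_⟩
  rw [← sub_eq_zero]
  linear_combination -h01

theorem moeb_scalar {g : GL (Fin 2) (ZMod 23)} (h10 : g 1 0 = 0) (h01 : g 0 1 = 0) (hd : g 0 0 = g 1 1) :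
    moeb g = 1 := by
  have hne : g 1 1 ≠ 0 := fun h => g.det_ne_zero (by rw [Matrix.det_fin_two, hd, h, h10]; simp)
  ext p
  cases p with
  | none => rw [moeb_none, if_pos h10]; rfl
  | some k => rw [moeb_some, h10, zero_mul, zero_add, if_neg hne, h01, add_zero, hd, mul_div_cancel_left₀ _ hne]; rfl

theorem moeb_ker : moeb.ker = Subgroup.center (GL (Fin 2) (ZMod 23)) := by
  refine le_antisymm (fun g hg => ?_) (fun g hg => ?_)
  · have h1 : moeb g = 1 := hg
    have hn := moeb_none g
    rw [h1] at hn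
    have h10 : g 1 0 = 0 := by
      by_contra h
      rw [if_neg h] at hn
      exact absurd (hn : (none : GolayPt) = some _) (by simp)
    have h0 := moeb_some g 0
    rw [h1, h10, zero_mul, zero_add, mul_zero, zero_add] at h0
    have hne : g 1 1 ≠ 0 := fun h => g.det_ne_zero (by rw [Matrix.det_fin_two, h, h10]; simp)
    rw [if_neg hne] at h0
    have h01 : g 0 1 = 0 := by
      have := Option.some.inj (h0 : (some 0 : GolayPt) = _)
      rcases div_eq_zero_iff.1 this.symm with h | h
      · exact h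
      · exact absurd h hne
    have hk := moeb_some g 1
    rw [h1, h10, zero_mul, zero_add, if_neg hne, h01, add_zero, mul_one] at hk
    have hd : g 0 0 = g 1 1 := by
      have := Option.some.inj (hk : (some 1 : GolayPt) = _)
      exact (div_eq_one_iff_eq hne).1 this.symm
    refine Subgroup.mem_center_iff.2 fun m => Units.ext ?_
    ext i j
    fin_cases i <;> fin_cases j <;> simp [Matrix.mul_apply, Fin.sum_univ_two, h10, h01, hd, mul_comm]
  · obtain ⟨h10, h01, hd⟩ := scalar_form hg
    exact moeb_scalar h10 h01 hd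

theorem card_center : Nat.card (Subgroup.center (GL (Fin 2) (ZMod 23))) = 22 := by
  have e : Nat.card (Subgroup.center (GL (Fin 2) (ZMod 23))) = Nat.card (ZMod 23)ˣ := by
    refine (Nat.card_congr (Equiv.ofBijective (fun c : (ZMod 23)ˣ =>
      (⟨Matrix.GeneralLinearGroup.scalar (Fin 2) c, Subgroup.mem_center_iff.2 fun m =>
        (Matrix.GeneralLinearGroup.scalar_commute c m).symm⟩ : Subgroup.center (GL (Fin 2) (ZMod 23)))) ⟨?_, ?_⟩)).symm
    · intro c d h
      have := congrArg (fun m : Subgroup.center (GL (Fin 2) (ZMod 23)) =>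
        ((m : GL (Fin 2) (ZMod 23)) : Matrix (Fin 2) (Fin 2) (ZMod 23)) 0 0) h
      exact Units.ext (by simpa [Matrix.GeneralLinearGroup.coe_scalar] using this)
    · rintro ⟨g, hg⟩
      obtain ⟨h10, h01, hd⟩ := scalar_form hg
      have hne : g 1 1 ≠ 0 := fun h => g.det_ne_zero (by rw [Matrix.det_fin_two, h, h10]; simp)
      refine ⟨Units.mk0 (g 1 1) hne, Subtype.ext (Units.ext ?_)⟩
      ext i j
      fin_cases i <;> fin_cases j <;> simp [Matrix.GeneralLinearGroup.coe_scalar, h10, h01, hd]
  rw [e, Nat.card_eq_fintype_card, ZMod.card_units]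

theorem card_range : Nat.card moeb.range = 12144 := by
  have h := Subgroup.card_eq_card_quotient_mul_card_subgroup moeb.ker
  rw [Nat.card_congr (QuotientGroup.quotientKerEquivRange moeb).toEquiv, moeb_ker, card_center,
    Matrix.card_GL_field, Fin.prod_univ_two, ZMod.card] at h
  generalize Nat.card moeb.range = r at h ⊢
  norm_num at h
  omega

theorem tr_mem : tr ∈ moeb.range := by
  refine ⟨⟨!![1, 1; 0, 1], !![1, -1; 0, 1], by decide +kernel, by decide +kernel⟩, ?_⟩
  ext p
  cases p with
  | none => rw [moeb_none]; simp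
  | some k => rw [moeb_some]; simp

theorem mu_mem (u : (ZMod 23)ˣ) : mu u ∈ moeb.range := by
  refine ⟨Matrix.GeneralLinearGroup.mkOfDetNeZero !![(u : ZMod 23), 0; 0, 1] (by
    rw [Matrix.det_fin_two_of]; simp), Equiv.ext fun p => ?_⟩
  cases p with
  | none => rw [moeb_none]; simp [Matrix.GeneralLinearGroup.mkOfDetNeZero]
  | some k => rw [moeb_some]; simp [Matrix.GeneralLinearGroup.mkOfDetNeZero]

theorem projInv_mem' : projInv ∈ moeb.range := by
  refine ⟨⟨!![0, -1; 1, 0], !![0, 1; -1, 0], by decide +kernel, by decide +kernel⟩, Equiv.ext fun p => ?_⟩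
  cases p with
  | none =>
    rw [moeb_none]
    show (if (1 : ZMod 23) = 0 then (none : GolayPt) else some (0 / 1)) = some 0
    rw [if_neg (by decide), zero_div]
  | some k =>
    have h : ∀ k : ZMod 23, k ≠ 0 → -(k ^ 21) = -1 / k := by decide +kernel
    rw [moeb_some]
    show (if (1 : ZMod 23) * k + 0 = 0 then (none : GolayPt) else some ((0 * k + -1) / (1 * k + 0))) = projInvFun (some k)
    simp only [one_mul, add_zero, zero_mul, zero_add, projInvFun]
    by_cases hk : k = 0
    · rw [if_pos hk, if_pos hk]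
    · rw [if_neg hk, if_neg hk, h k hk]

theorem negP_mem : negP ∈ moeb.range := by
  refine ⟨⟨!![-1, 0; 0, 1], !![-1, 0; 0, 1], by decide +kernel, by decide +kernel⟩, ?_⟩
  ext p
  cases p with
  | none => rw [moeb_none]; simp [negP]
  | some k => rw [moeb_some]; simp [negP]

theorem range_eq : moeb.range = pgl := by
  have hle : pgl ≤ moeb.range := by
    refine sup_le ?_ (Subgroup.zpowers_le.2 negP_mem)
    rw [psl_closure]
    refine (Subgroup.closure_le _).2 ?_
    rintro g (rfl | rfl | rfl)
    · exact tr_mem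
    · exact mu_mem two
    · exact projInv_mem'
  refine (Subgroup.eq_of_le_of_card_ge hle ?_).symm
  have hd : Nat.card psl ∣ Nat.card pgl := Subgroup.card_dvd_of_le le_sup_left
  obtain ⟨k, hk⟩ := hd
  rw [card_range]
  have hk1 : k ≠ 1 := by
    rintro rfl
    rw [mul_one] at hk
    have e := Subgroup.eq_of_le_of_card_ge (le_sup_left : psl ≤ pgl) hk.le
    exact negP_notMem (psl_le (e.symm ▸ Subgroup.mem_sup_right (Subgroup.mem_zpowers negP)))
  have hk0 : k ≠ 0 := by
    rintro rfl
    exact Nat.card_pos.ne' (hk.trans (mul_zero _))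
  rw [psl_facts.1] at hk
  rw [hk]
  omega

/-- the projective general linear group as a permutation group -/
noncomputable def pglEquiv :
    GL (Fin 2) (ZMod 23) ⧸ Subgroup.center (GL (Fin 2) (ZMod 23)) ≃* pgl :=
  ((QuotientGroup.quotientMulEquivOfEq moeb_ker.symm).trans (QuotientGroup.quotientKerEquivRange moeb)).trans
    (MulEquiv.subgroupCongr range_eq)

end Cfsg.Agent.Spor.JFour.Twenty3
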